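import Mathlib

/-!
Binary codes for finite groups of exponent two, with the automorphisms written as tables.
-/

set_option autoImplicit false

namespace Cfsg.Agent.H44.BaseTwo

/-- A numbering of the elements in which multiplication is bitwise exclusive or. -/
structure Code (T : Type*) [CommGroup T] (n : ℕ) where
  e : T → ℕ
  lt : ∀ t, e t < 2 ^ n
  inj : Function.Injective e
  mul : ∀ s t, e (s * t) = e s ^^^ e t
  surj : ∀ x, x < 2 ^ n → ∃ t, e t = x

theorem Code.one {T : Type*} [CommGroup T] {n : ℕ} (C : Code T n) : C.e 1 = 0 := by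
  have h := C.mul 1 1
  rw [one_mul, Nat.xor_self] at h
  exact h

theorem exists_code (T : Type*) [CommGroup T] [Finite T] (hT : ∀ t : T, t * t = 1) :
    ∃ n, Nat.card T = 2 ^ n ∧ Nonempty (Code T n) := by
  classical
  have h2 : ∀ x : Additive T, (2 : ℕ) • x = 0 := fun x => by
    rw [two_nsmul]
    exact hT x.toMul
  letI : Module (ZMod 2) (Additive T) := AddCommGroup.zmodModule h2
  haveI : Module.Finite (ZMod 2) (Additive T) := Module.Finite.of_finite
  set n := Module.finrank (ZMod 2) (Additive T)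
  let b := Module.finBasis (ZMod 2) (Additive T)
  let f : T → (Fin n → ZMod 2) := fun t => b.equivFun (Additive.ofMul t)
  have hf : Function.Bijective f := b.equivFun.bijective.comp Additive.ofMul.bijective
  have hc : Nat.card T = 2 ^ n := by
    rw [Nat.card_congr (Equiv.ofBijective f hf)]
    simp
  let e : T → ℕ := fun t => Nat.ofBits fun i => decide (f t i = 1)
  have hb : ∀ (t : T) (i : Fin n), (e t).testBit i = decide (f t i = 1) := fun t i => by
    simp [e, Nat.testBit_ofBits, i.2]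
  have hlt : ∀ t, e t < 2 ^ n := fun t => Nat.lt_pow_two_of_testBit _ fun i hi => by
    simp [e, Nat.testBit_ofBits, Nat.not_lt.2 hi]
  have hinj : Function.Injective e := fun s t h => hf.1 (funext fun i => by
    have h1 := hb s i
    rw [h, hb t i] at h1
    have key : ∀ a b : ZMod 2, decide (b = 1) = decide (a = 1) → a = b := by decide
    exact key _ _ h1)
  refine ⟨n, hc, ⟨⟨e, hlt, hinj, fun s t => ?_, fun x hx => ?_⟩⟩⟩
  · have hm : f (s * t) = f s + f t := by simp [f, ofMul_mul]
    have key : ∀ a b : ZMod 2, decide (a + b = 1) = xor (decide (a = 1)) (decide (b = 1)) := by decide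
    refine Nat.eq_of_testBit_eq fun i => ?_
    rw [Nat.testBit_xor]
    by_cases hi : i < n
    · rw [hb _ ⟨i, hi⟩, hb _ ⟨i, hi⟩, hb _ ⟨i, hi⟩, hm]
      exact key _ _
    · simp [e, Nat.testBit_ofBits, hi]
  · have hbij : Function.Bijective (fun t => (⟨e t, hlt t⟩ : Fin (2 ^ n))) :=
      (Nat.bijective_iff_injective_and_card _).2
        ⟨fun s t h => hinj (congrArg Fin.val h), by rw [hc]; simp⟩
    obtain ⟨t, ht⟩ := hbij.2 ⟨x, hx⟩
    exact ⟨t, congrArg Fin.val ht⟩

/-- Automorphisms act on codes by maps linear for exclusive or. -/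
structure IsLin (n : ℕ) (q : ℕ → ℕ) : Prop where
  lt : ∀ x, x < 2 ^ n → q x < 2 ^ n
  xor : ∀ x y, x < 2 ^ n → y < 2 ^ n → q (x ^^^ y) = q x ^^^ q y
  inj : ∀ x y, x < 2 ^ n → y < 2 ^ n → q x = q y → x = y

theorem IsLin.zero {n : ℕ} {q : ℕ → ℕ} (h : IsLin n q) : q 0 = 0 := by
  have h1 := h.xor 0 0 (Nat.two_pow_pos n) (Nat.two_pow_pos n)
  rw [Nat.xor_self, Nat.xor_self] at h1
  exact h1

theorem two_pow_add_eq_xor {k j : ℕ} (hj : j < 2 ^ k) : 2 ^ k + j = 2 ^ k ^^^ j := by
  refine Nat.eq_of_testBit_eq fun i => ?_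
  rw [Nat.testBit_xor, Nat.testBit_two_pow]
  rcases eq_or_ne k i with rfl | hki
  · simp [Nat.testBit_two_pow_add_eq, Nat.testBit_eq_false_of_lt hj]
  rcases Nat.lt_or_gt_of_ne hki with h | h
  · have h1 : 2 ^ (k + 1) ≤ 2 ^ i := Nat.pow_le_pow_right two_pos h
    rw [pow_succ] at h1
    rw [Nat.testBit_eq_false_of_lt (by omega), Nat.testBit_eq_false_of_lt (by omega)]
    simp [hki]
  · rw [Nat.testBit_two_pow_add_gt h]
    simp [hki]

/-- A linear map fixing the powers of two is the identity. -/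
theorem IsLin.eq_self {n : ℕ} {q : ℕ → ℕ} (h : IsLin n q)
    (hf : ∀ i, i < n → q (2 ^ i) = 2 ^ i) : ∀ x, x < 2 ^ n → q x = x := by
  suffices ∀ k, k ≤ n → ∀ x, x < 2 ^ k → q x = x from this n le_rfl
  intro k
  induction k with
  | zero =>
    intro _ x hx
    simp only [pow_zero, Nat.lt_one_iff] at hx
    subst hx
    exact h.zero
  | succ k ih =>
    intro hk x hx
    rcases lt_or_ge x (2 ^ k) with h1 | h1
    · exact ih (by omega) x h1
    rw [pow_succ] at hx
    obtain ⟨j, rfl⟩ : ∃ j, x = 2 ^ k + j := ⟨x - 2 ^ k, by omega⟩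
    have hp : 2 ^ k < 2 ^ n := Nat.pow_lt_pow_right (by omega) hk
    rw [two_pow_add_eq_xor (by omega), h.xor _ _ hp (by omega), hf k hk, ih (by omega) j (by omega)]

theorem IsLin.surj {n : ℕ} {q : ℕ → ℕ} (h : IsLin n q) (y : ℕ) (hy : y < 2 ^ n) :
    ∃ x, x < 2 ^ n ∧ q x = y := by
  have hf : Function.Injective (fun x : Fin (2 ^ n) => (⟨q x, h.lt _ x.2⟩ : Fin (2 ^ n))) :=
    fun a b hab => Fin.ext (h.inj _ _ a.2 b.2 (congrArg Fin.val hab))
  obtain ⟨x, hx⟩ := Finite.surjective_of_injective hf ⟨y, hy⟩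
  exact ⟨x, x.2, congrArg Fin.val hx⟩

/-- The map on codes of an automorphism. -/
noncomputable def Code.act {T : Type*} [CommGroup T] {n : ℕ} (C : Code T n) (π : T ≃* T) (x : ℕ) : ℕ :=
  if h : x < 2 ^ n then C.e (π (C.surj x h).choose) else x

theorem Code.act_e {T : Type*} [CommGroup T] {n : ℕ} (C : Code T n) (π : T ≃* T) (t : T) :
    C.act π (C.e t) = C.e (π t) := by
  rw [Code.act, dif_pos (C.lt t)]
  have h := (C.surj _ (C.lt t)).choose_spec
  rw [C.inj h]

theorem Code.isLin {T : Type*} [CommGroup T] {n : ℕ} (C : Code T n) (π : T ≃* T) :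
    IsLin n (C.act π) := by
  refine ⟨fun x hx => ?_, fun x y hx hy => ?_, fun x y hx hy h => ?_⟩
  · obtain ⟨s, rfl⟩ := C.surj x hx
    rw [C.act_e]
    exact C.lt _
  · obtain ⟨s, rfl⟩ := C.surj x hx
    obtain ⟨t, rfl⟩ := C.surj y hy
    rw [← C.mul, C.act_e, C.act_e, C.act_e, map_mul, C.mul]
  · obtain ⟨s, rfl⟩ := C.surj x hx
    obtain ⟨t, rfl⟩ := C.surj y hy
    rw [C.act_e, C.act_e] at h
    rw [π.injective (C.inj h)]

/-- The tables of the linear maps of the first `k` bits compatible with a set given by a mask. -/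
def autos (n m : ℕ) : ℕ → List (List ℕ)
  | 0 => [[0]]
  | k + 1 => (autos n m k).flatMap fun f =>
      ((List.range (2 ^ n)).filter fun c => (List.range (2 ^ k)).all fun j =>
        (m.testBit (2 ^ k + j) == m.testBit (c ^^^ f.getD j 0)) && (c ^^^ f.getD j 0) != 0).map
        fun c => f ++ f.map (c ^^^ ·)

theorem mem_autos {n m : ℕ} {q : ℕ → ℕ} (h : IsLin n q)
    (hm : ∀ x, x < 2 ^ n → m.testBit (q x) = m.testBit x) :
    ∀ k, k ≤ n → (List.range (2 ^ k)).map q ∈ autos n m k := by
  intro k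
  induction k with
  | zero => intro _; simp [autos, List.range_succ, h.zero]
  | succ k ih =>
    intro hk
    have hp : 2 ^ k < 2 ^ n := Nat.pow_lt_pow_right (by omega) hk
    have hsum : 2 ^ k + 2 ^ k ≤ 2 ^ n := by
      have := Nat.pow_le_pow_right two_pos hk
      rw [pow_succ] at this
      omega
    have hq : ∀ j, j < 2 ^ k → q (2 ^ k + j) = q (2 ^ k) ^^^ q j := fun j hj => by
      rw [two_pow_add_eq_xor hj, h.xor _ _ hp (by omega)]
    rw [autos, List.mem_flatMap]
    refine ⟨_, ih (by omega), ?_⟩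
    rw [List.mem_map]
    refine ⟨q (2 ^ k), ?_, ?_⟩
    · rw [List.mem_filter, List.mem_range, List.all_eq_true]
      refine ⟨h.lt _ hp, fun j hj => ?_⟩
      rw [List.mem_range] at hj
      have hg : ((List.range (2 ^ k)).map q).getD j 0 = q j := by simp [List.getD, hj]
      rw [hg, ← hq j hj, hm _ (by omega)]
      simp only [beq_self_eq_true, Bool.true_and, bne_iff_ne, ne_eq]
      intro hz
      have := h.inj _ _ (by omega) (by omega) (hz.trans h.zero.symm)
      have := Nat.two_pow_pos k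
      omega
    · rw [List.map_map, pow_succ, mul_two, List.range_add, List.map_append, List.map_map]
      congr 1
      refine List.map_congr_left fun j hj => ?_
      simp [hq j (List.mem_range.mp hj)]

end Cfsg.Agent.H44.BaseTwo
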