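import Cfsg.Agent.H44.BaseTwo.Code

/-!
A rigid subset of a group of exponent two and order at least sixty-four, each of whose members has
generating translates inside it.

The subset is the complement of the identity and of the set `S` of the codes `2 ^ i`,
`2 ^ i ^^^ 2 ^ (i + 1)` and one further code `W` of weight four. The triples of `S` with sum zero form a
path, and `W` is in none of them.
-/

set_option autoImplicit false

namespace Cfsg.Agent.H44.BaseTwo.Large

def E (i : ℕ) : ℕ := 2 ^ i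

def F (i : ℕ) : ℕ := 2 ^ i ^^^ 2 ^ (i + 1)

def W (n : ℕ) : ℕ := 2 ^ 0 ^^^ 2 ^ 1 ^^^ 2 ^ 2 ^^^ 2 ^ (n - 1)

/-- The excluded codes. -/
def S (n x : ℕ) : Prop :=
  (∃ i, i < n ∧ x = E i) ∨ (∃ i, i + 1 < n ∧ x = F i) ∨ x = W n

theorem bitE (i m : ℕ) : (E i).testBit m = true ↔ (m ≤ i ∧ i ≤ m) := by
  simp only [E, Nat.testBit_two_pow, decide_eq_true_eq]
  omega

theorem bitF (i m : ℕ) : (F i).testBit m = true ↔ ((m ≤ i + 1) ∧ i ≤ m) := by
  simp only [F, Nat.testBit_xor, Nat.testBit_two_pow, Bool.bne_eq_xor]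
  by_cases h1 : i = m <;> by_cases h2 : i + 1 = m <;> simp [h1, h2] <;> omega

theorem bitW {n : ℕ} (hn : 6 ≤ n) (m : ℕ) :
    (W n).testBit m = true ↔ (m ≤ 2 ∨ (m ≤ n - 1 ∧ n - 1 ≤ m)) := by
  simp only [W, Nat.testBit_xor, Nat.testBit_two_pow, Bool.bne_eq_xor]
  by_cases h0 : 0 = m <;> by_cases h1 : 1 = m <;> by_cases h2 : 2 = m <;>
    by_cases h3 : n - 1 = m <;> simp [h0, h1, h2, h3] <;> omega

theorem bit_iff {a b c : ℕ} (h : a = b ^^^ c) (m : ℕ) :
    (a.testBit m = true) ↔ ¬ ((b.testBit m = true) ↔ (c.testBit m = true)) := by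
  subst h
  rw [Nat.testBit_xor]
  cases b.testBit m <;> cases c.testBit m <;> simp

theorem eq_of_bit {a b : ℕ} (h : a = b) (m : ℕ) : (a.testBit m = true) ↔ (b.testBit m = true) := by
  rw [h]

theorem E_inj {i j : ℕ} (h : E i = E j) : i = j := by
  have := eq_of_bit h i
  simp only [bitE] at this
  omega

theorem E_ne_F (i j : ℕ) : E i ≠ F j := by
  intro h
  have h1 := eq_of_bit h j
  have h2 := eq_of_bit h (j + 1)
  simp only [bitE, bitF] at h1 h2
  omega

theorem F_inj {i j : ℕ} (h : F i = F j) : i = j := by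
  have h1 := eq_of_bit h i
  have h2 := eq_of_bit h j
  simp only [bitF] at h1 h2
  omega

theorem W_ne {n : ℕ} (hn : 6 ≤ n) (i : ℕ) : W n ≠ E i ∧ W n ≠ F i := by
  constructor <;> intro h <;>
  · have h0 := eq_of_bit h 0
    have h1 := eq_of_bit h 1
    have h2 := eq_of_bit h 2
    simp only [bitE, bitF, bitW hn] at h0 h1 h2
    omega

theorem lt_of_S {n x : ℕ} (hn : 6 ≤ n) (h : S n x) : x < 2 ^ n := by
  have hp : ∀ i, i < n → 2 ^ i < 2 ^ n := fun i hi => Nat.pow_lt_pow_right (by omega) hi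
  rcases h with ⟨i, hi, rfl⟩ | ⟨i, hi, rfl⟩ | rfl
  · exact hp i hi
  · exact Nat.xor_lt_two_pow (hp i (by omega)) (hp _ hi)
  · exact Nat.xor_lt_two_pow (Nat.xor_lt_two_pow (Nat.xor_lt_two_pow (hp 0 (by omega))
      (hp 1 (by omega))) (hp 2 (by omega))) (hp _ (by omega))

theorem zero_not_S {n : ℕ} (hn : 6 ≤ n) : ¬ S n 0 := by
  rintro (⟨i, -, h⟩ | ⟨i, -, h⟩ | h)
  · have := eq_of_bit h i; simp [bitE] at this
  · have := eq_of_bit h i; simp [bitF] at this
  · have := (bitW hn 0).2 (by omega)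
    rw [← h] at this
    simp at this

/-- A member of the `j`th triple. -/
def InLine (j x : ℕ) : Prop := x = E j ∨ x = E (j + 1) ∨ x = F j

theorem EE {n i j x : ℕ} (hn : 6 ≤ n) (hi : i < n) (hj : j < n) (hx : S n x) (h : x = E i ^^^ E j) :
    i + 1 = j ∨ j + 1 = i := by
  have hb := fun m => bit_iff h m
  rcases hx with ⟨k, hk, rfl⟩ | ⟨k, hk, rfl⟩ | rfl
  · simp only [bitE] at hb
    have := hb i; have := hb j; have := hb k
    omega
  · simp only [bitE, bitF] at hb
    have := hb i; have := hb j; have := hb k; have := hb (k + 1)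
    omega
  · simp only [bitE, bitW hn] at hb
    have := hb 0; have := hb 1; have := hb 2
    omega

theorem EF {n i j x : ℕ} (hn : 6 ≤ n) (hi : i < n) (hj : j + 1 < n) (hx : S n x)
    (h : x = E i ^^^ F j) : i = j ∨ i = j + 1 := by
  have hb := fun m => bit_iff h m
  rcases hx with ⟨k, hk, rfl⟩ | ⟨k, hk, rfl⟩ | rfl
  · simp only [bitE, bitF] at hb
    have := hb i; have := hb j; have := hb (j + 1); have := hb k
    omega
  · simp only [bitE, bitF] at hb
    have := hb i; have := hb j; have := hb (j + 1); have := hb k; have := hb (k + 1)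
    omega
  · simp only [bitE, bitF, bitW hn] at hb
    have := hb 0; have := hb 1; have := hb 2; have := hb (n - 1)
    omega

theorem FF {n i j x : ℕ} (hn : 6 ≤ n) (hi : i + 1 < n) (hj : j + 1 < n) (hx : S n x)
    (h : x = F i ^^^ F j) : False := by
  have hb := fun m => bit_iff h m
  rcases hx with ⟨k, hk, rfl⟩ | ⟨k, hk, rfl⟩ | rfl
  · simp only [bitE, bitF] at hb
    have := hb i; have := hb (i + 1); have := hb j; have := hb (j + 1); have := hb k
    omega
  · simp only [bitF] at hb
    have := hb i; have := hb (i + 1); have := hb j; have := hb (j + 1); have := hb k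
    have := hb (k + 1)
    omega
  · simp only [bitF, bitW hn] at hb
    have := hb 0; have := hb 1; have := hb 2; have := hb (n - 1); have := hb i; have := hb (i + 1)
    omega

theorem not_W {n b x : ℕ} (hn : 6 ≤ n) (hb : S n b) (hx : S n x) (h : x = W n ^^^ b) : False := by
  have h' : W n = x ^^^ b := by rw [h, Nat.xor_assoc, Nat.xor_self, Nat.xor_zero]
  rcases hb with ⟨i, hi, rfl⟩ | ⟨i, hi, rfl⟩ | rfl
  · rcases hx with ⟨k, hk, rfl⟩ | ⟨k, hk, rfl⟩ | rfl
    · rcases EE hn hk hi (Or.inr (Or.inr rfl)) h' with hki | hki <;>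
      · have h0 := bit_iff h' 0
        have h1 := bit_iff h' 1
        have h2 := bit_iff h' 2
        simp only [bitE, bitW hn] at h0 h1 h2
        omega
    · have h0 := bit_iff h' 0
      have h1 := bit_iff h' 1
      have h2 := bit_iff h' 2
      have h3 := bit_iff h' (n - 1)
      simp only [bitE, bitF, bitW hn] at h0 h1 h2 h3
      omega
    · have h0 := bit_iff h i
      have h1 := bit_iff h 0
      simp only [bitE, bitW hn] at h0 h1
      omega
  · rcases hx with ⟨k, hk, rfl⟩ | ⟨k, hk, rfl⟩ | rfl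
    · have h0 := bit_iff h' 0
      have h1 := bit_iff h' 1
      have h2 := bit_iff h' 2
      have h3 := bit_iff h' (n - 1)
      simp only [bitE, bitF, bitW hn] at h0 h1 h2 h3
      omega
    · exact FF hn hk hi (Or.inr (Or.inr rfl)) h'
    · have h0 := bit_iff h i
      simp only [bitF, bitW hn] at h0
      omega
  · rw [Nat.xor_self] at h
    exact zero_not_S hn (h ▸ hx)

/-- The members of `S` with sum in `S` are those of a triple. -/
theorem exists_line {n a b : ℕ} (hn : 6 ≤ n) (ha : S n a) (hb : S n b) (hx : S n (a ^^^ b)) :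
    ∃ j, j + 1 < n ∧ InLine j a ∧ InLine j b := by
  rcases ha with ⟨i, hi, rfl⟩ | ⟨i, hi, rfl⟩ | rfl
  · rcases hb with ⟨j, hj, rfl⟩ | ⟨j, hj, rfl⟩ | rfl
    · rcases EE hn hi hj hx rfl with rfl | rfl
      · exact ⟨i, hj, Or.inl rfl, Or.inr (Or.inl rfl)⟩
      · exact ⟨j, hi, Or.inr (Or.inl rfl), Or.inl rfl⟩
    · rcases EF hn hi hj hx rfl with rfl | rfl
      · exact ⟨i, hj, Or.inl rfl, Or.inr (Or.inr rfl)⟩
      · exact ⟨j, hj, Or.inr (Or.inl rfl), Or.inr (Or.inr rfl)⟩
    · exact (not_W hn (Or.inl ⟨i, hi, rfl⟩) hx (Nat.xor_comm _ _)).elim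
  · rcases hb with ⟨j, hj, rfl⟩ | ⟨j, hj, rfl⟩ | rfl
    · rcases EF hn hj hi hx (Nat.xor_comm _ _) with rfl | rfl
      · exact ⟨j, hi, Or.inr (Or.inr rfl), Or.inl rfl⟩
      · exact ⟨i, hi, Or.inr (Or.inr rfl), Or.inr (Or.inl rfl)⟩
    · exact (FF hn hi hj hx rfl).elim
    · exact (not_W hn (Or.inr (Or.inl ⟨i, hi, rfl⟩)) hx (Nat.xor_comm _ _)).elim
  · exact (not_W hn hb hx rfl).elim

theorem line_E {j i : ℕ} (h : InLine j (E i)) : i = j ∨ i = j + 1 := by
  rcases h with h | h | h
  · exact Or.inl (E_inj h)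
  · exact Or.inr (E_inj h)
  · exact absurd h (E_ne_F _ _)

theorem line_F {j i : ℕ} (h : InLine j (F i)) : i = j := by
  rcases h with h | h | h
  · exact absurd h.symm (E_ne_F _ _)
  · exact absurd h.symm (E_ne_F _ _)
  · exact F_inj h

theorem E_xor_E_succ (i : ℕ) : E i ^^^ E (i + 1) = F i := rfl

theorem E_xor_F (i : ℕ) : E i ^^^ F i = E (i + 1) := by
  rw [F, E, E, ← Nat.xor_assoc, Nat.xor_self, Nat.zero_xor]

theorem E_succ_xor_F (i : ℕ) : E (i + 1) ^^^ F i = E i := by
  rw [F, E, E, Nat.xor_comm (2 ^ i), ← Nat.xor_assoc, Nat.xor_self, Nat.zero_xor]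

theorem partner {j a b : ℕ} (hl : InLine j a) (hb : InLine j b) (hab : a ≠ b) :
    InLine j (a ^^^ b) ∧ a ^^^ b ≠ a ∧ a ^^^ b ≠ b := by
  have hne1 : E j ≠ E (j + 1) := fun h => by have := E_inj h; omega
  have hne2 := E_ne_F j j
  have hne3 := E_ne_F (j + 1) j
  rcases hl with rfl | rfl | rfl <;> rcases hb with rfl | rfl | rfl <;>
    first
    | exact absurd rfl hab
    | (simp only [E_xor_E_succ, E_xor_F, E_succ_xor_F, Nat.xor_comm (F j), Nat.xor_comm (E (j + 1)) (E j)]
       exact ⟨by simp [InLine], by first | assumption | exact Ne.symm ‹_›,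
         by first | assumption | exact Ne.symm ‹_›⟩)

/-- Two triples pass through the element. -/
def Two (n a : ℕ) : Prop :=
  ∃ b b', S n b ∧ S n (a ^^^ b) ∧ S n b' ∧ S n (a ^^^ b') ∧ b' ≠ b ∧ b' ≠ a ^^^ b

theorem two_mid {n i : ℕ} (h1 : 1 ≤ i) (hi : i + 1 < n) : Two n (E i) := by
  obtain ⟨k, rfl⟩ : ∃ k, i = k + 1 := ⟨i - 1, by omega⟩
  refine ⟨E k, E (k + 1 + 1), Or.inl ⟨k, by omega, rfl⟩, ?_, Or.inl ⟨_, hi, rfl⟩,
    Or.inr (Or.inl ⟨k + 1, hi, rfl⟩), fun h => by have := E_inj h; omega, ?_⟩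
  · rw [Nat.xor_comm]
    exact Or.inr (Or.inl ⟨k, by omega, rfl⟩)
  · rw [Nat.xor_comm]
    exact E_ne_F _ _

theorem mid_of_two {n a : ℕ} (hn : 6 ≤ n) (ha : S n a) (h : Two n a) :
    ∃ i, 1 ≤ i ∧ i + 1 < n ∧ a = E i := by
  obtain ⟨b, b', hb, hab, hb', hab', h1, h2⟩ := h
  obtain ⟨j, hj, hja, hjb⟩ := exists_line hn ha hb hab
  obtain ⟨j', hj', hja', hjb'⟩ := exists_line hn ha hb' hab'
  have hne : a ≠ b := fun h => zero_not_S hn (by rwa [h, Nat.xor_self] at hab)
  have hne' : a ≠ b' := fun h => zero_not_S hn (by rwa [h, Nat.xor_self] at hab')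
  by_cases hjj : j = j'
  · subst hjj
    obtain ⟨hp, hpa, hpb⟩ := partner hja hjb hne
    rcases hja with rfl | rfl | rfl <;> rcases hjb with rfl | rfl | rfl <;>
      rcases hjb' with rfl | rfl | rfl <;> rcases hp with hp | hp | hp <;>
      first
      | exact absurd rfl hne
      | exact absurd rfl hne'
      | exact absurd rfl h1
      | exact absurd hp hpa
      | exact absurd hp hpb
      | exact absurd hp.symm h2
  · rcases hja with rfl | rfl | rfl
    · rcases line_E hja' with rfl | rfl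
      · exact absurd rfl hjj
      · exact ⟨j' + 1, by omega, hj, rfl⟩
    · rcases line_E hja' with rfl | h
      · exact ⟨j + 1, by omega, hj', rfl⟩
      · exact absurd (by omega) hjj
    · exact absurd (line_F hja') hjj

theorem rigid {n : ℕ} (hn : 6 ≤ n) {q : ℕ → ℕ} (hq : IsLin n q)
    (hS : ∀ x, x < 2 ^ n → (S n (q x) ↔ S n x)) : ∀ x, x < 2 ^ n → q x = x := by
  have hlt : ∀ {x}, S n x → x < 2 ^ n := fun h => lt_of_S hn h
  have hE : ∀ i, i < n → S n (E i) := fun i hi => Or.inl ⟨i, hi, rfl⟩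
  have hsum : ∀ a b, S n a → S n b → S n (a ^^^ b) → S n (q a ^^^ q b) := fun a b ha hb hab => by
    rw [← hq.xor a b (hlt ha) (hlt hb)]
    exact (hS _ (hlt hab)).2 hab
  have hinj : ∀ {a b}, S n a → S n b → q a = q b → a = b :=
    fun ha hb h => hq.inj _ _ (hlt ha) (hlt hb) h
  have hmid : ∀ i, 1 ≤ i → i + 1 < n → ∃ j, 1 ≤ j ∧ j + 1 < n ∧ q (E i) = E j := by
    intro i h1 hi
    have ha : S n (E i) := hE i (by omega)
    obtain ⟨b, b', hb, hab, hb', hab', e1, e2⟩ := two_mid h1 hi
    refine mid_of_two hn ((hS _ (hlt ha)).2 ha)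
      ⟨q b, q b', (hS _ (hlt hb)).2 hb, hsum _ _ ha hb hab, (hS _ (hlt hb')).2 hb',
        hsum _ _ ha hb' hab', fun h => e1 (hinj hb' hb h), fun h => e2 ?_⟩
    rw [← hq.xor _ _ (hlt ha) (hlt hb)] at h
    exact hinj hb' hab h
  choose! σ hσ1 hσ2 hσ using hmid
  have hstep : ∀ i, 1 ≤ i → i + 2 < n → σ i + 1 = σ (i + 1) ∨ σ (i + 1) + 1 = σ i := by
    intro i h1 hi
    have hF : S n (E i ^^^ E (i + 1)) := Or.inr (Or.inl ⟨i, by omega, rfl⟩)
    have h := hsum _ _ (hE i (by omega)) (hE (i + 1) (by omega)) hF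
    rw [hσ i h1 (by omega), hσ (i + 1) (by omega) (by omega)] at h
    exact EE hn (by have := hσ2 i h1 (by omega); omega)
      (by have := hσ2 (i + 1) (by omega) (by omega); omega) h rfl
  have hσinj : ∀ i k, 1 ≤ i → i + 1 < n → 1 ≤ k → k + 1 < n → σ i = σ k → i = k := by
    intro i k h1 hi h2 hk h
    refine E_inj (hinj (hE i (by omega)) (hE k (by omega)) ?_)
    rw [hσ i h1 hi, hσ k h2 hk, h]
  have hdir : (∀ i, 1 ≤ i → i + 1 < n → σ i = i) ∨ (∀ i, 1 ≤ i → i + 1 < n → σ i = n - 1 - i) := by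
    rcases hstep 1 le_rfl (by omega) with h | h
    · have hk : ∀ k, k + 2 < n → σ (k + 1) = σ 1 + k ∧ (k + 3 < n → σ (k + 2) = σ 1 + (k + 1)) := by
        intro k
        induction k with
        | zero => intro _; exact ⟨rfl, fun _ => h.symm⟩
        | succ k ih =>
          intro hk
          obtain ⟨e1, e2⟩ := ih (by omega)
          have e2 := e2 (by omega)
          refine ⟨e2, fun hk' => ?_⟩
          rcases hstep (k + 2) (by omega) (by omega) with e | e
          · show σ (k + 2 + 1) = _; omega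
          · have := hσinj (k + 1) (k + 2 + 1) (by omega) (by omega) (by omega) (by omega) (by omega)
            omega
      have h1 := hσ1 1 le_rfl (by omega)
      have h2 := hσ2 (n - 2) (by omega) (by omega)
      have h3 := (hk (n - 3) (by omega)).1
      rw [show n - 3 + 1 = n - 2 by omega] at h3
      refine Or.inl fun i hi1 hi2 => ?_
      have h4 := (hk (i - 1) (by omega)).1
      rw [show i - 1 + 1 = i by omega] at h4
      omega
    · have hk : ∀ k, k + 2 < n → σ (k + 1) + k = σ 1 ∧ (k + 3 < n → σ (k + 2) + (k + 1) = σ 1) := by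
        intro k
        induction k with
        | zero => intro _; exact ⟨rfl, fun _ => h⟩
        | succ k ih =>
          intro hk
          obtain ⟨e1, e2⟩ := ih (by omega)
          have e2 := e2 (by omega)
          refine ⟨e2, fun hk' => ?_⟩
          rcases hstep (k + 2) (by omega) (by omega) with e | e
          · have := hσinj (k + 1) (k + 2 + 1) (by omega) (by omega) (by omega) (by omega) (by omega)
            omega
          · show σ (k + 2 + 1) + _ = _; omega
      have h1 := hσ2 1 le_rfl (by omega)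
      have h2 := hσ1 (n - 2) (by omega) (by omega)
      have h3 := (hk (n - 3) (by omega)).1
      rw [show n - 3 + 1 = n - 2 by omega] at h3
      refine Or.inr fun i hi1 hi2 => ?_
      have h4 := (hk (i - 1) (by omega)).1
      rw [show i - 1 + 1 = i by omega] at h4
      omega
  have hWS : S n (W n) := Or.inr (Or.inr rfl)
  have hqW : q (W n) = W n := by
    rcases (hS _ (hlt hWS)).2 hWS with ⟨i, hi, h⟩ | ⟨i, hi, h⟩ | h
    · exfalso
      obtain ⟨b, hb, hab⟩ : ∃ b, S n b ∧ S n (E i ^^^ b) := by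
        by_cases h1 : i + 1 < n
        · exact ⟨E (i + 1), hE _ h1, Or.inr (Or.inl ⟨i, h1, rfl⟩)⟩
        · obtain ⟨k, rfl⟩ : ∃ k, i = k + 1 := ⟨i - 1, by omega⟩
          exact ⟨E k, hE k (by omega), Or.inr (Or.inl ⟨k, hi, Nat.xor_comm _ _⟩)⟩
      obtain ⟨x, hx, rfl⟩ := hq.surj _ (hlt hb)
      rw [← h, ← hq.xor _ _ (hlt hWS) hx, hS _ (Nat.xor_lt_two_pow (hlt hWS) hx)] at hab
      exact not_W hn ((hS _ hx).1 hb) hab rfl
    · exfalso
      have hab : S n (F i ^^^ E i) := by
        rw [Nat.xor_comm, E_xor_F]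
        exact hE _ hi
      obtain ⟨x, hx, hxe⟩ := hq.surj _ (hlt (hE i (by omega)))
      rw [← h, ← hxe, ← hq.xor _ _ (hlt hWS) hx, hS _ (Nat.xor_lt_two_pow (hlt hWS) hx)] at hab
      exact not_W hn ((hS _ hx).1 (hxe ▸ hE i (by omega))) hab rfl
    · exact h
  -- an end next to a middle element goes into the outer triple at the image of the latter
  have houter : ∀ e i k, e < n → i < n → k < n → S n (E e ^^^ E i) → e ≠ k → S n (E i ^^^ E k) →
      ∀ a c : ℕ, q (E i) = E a → q (E k) = E c → (c + 1 = a ∨ a + 1 = c) →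
      ∃ j, j + 1 < n ∧ InLine j (q (E e)) ∧ (a = j ∨ a = j + 1) ∧
        ¬ InLine j (E c) ∧ ∀ m, (q (E e)).testBit m = true → m = j ∨ m = j + 1 := by
    intro e i k he hi hk hei hek hik a c ha hc hac
    have hl := exists_line hn ((hS _ (hlt (hE e he))).2 (hE e he))
      ((hS _ (hlt (hE i hi))).2 (hE i hi)) (hsum _ _ (hE e he) (hE i hi) hei)
    obtain ⟨j, hj, hje, hja⟩ := hl
    rw [ha] at hja
    refine ⟨j, hj, hje, line_E hja, fun hjc => ?_, fun m hm => ?_⟩
    · have hne : E i ≠ E k := fun h => zero_not_S hn (by rwa [h, Nat.xor_self] at hik)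
      have hei' : E e ≠ E i := fun h => zero_not_S hn (by rwa [h, Nat.xor_self] at hei)
      have hac' : E a ≠ E c := fun h => by have := E_inj h; omega
      obtain ⟨-, -, -⟩ := partner hja hjc hac'
      have hcase : q (E e) = E c ∨ q (E e) = E a ^^^ E c ∨ q (E e) = E a := by
        rcases hje with h | h | h <;> rcases line_E hja with rfl | rfl <;>
          rcases line_E hjc with rfl | rfl <;>
          simp only [h, E_xor_E_succ, Nat.xor_comm (E (_ + 1)) (E _)] <;>
          first
          | omega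
          | simp
      rcases hcase with h | h | h
      · rw [← hc] at h
        exact hek (E_inj (hinj (hE e he) (hE k hk) h))
      · rw [← ha, ← hc, ← hq.xor _ _ (hlt (hE i hi)) (hlt (hE k hk))] at h
        have h' := hinj (hE e he) hik h
        have := EE hn he hk (hE i hi) (by rw [h', Nat.xor_assoc, Nat.xor_self, Nat.xor_zero])
        have := EE hn hi hk hik rfl
        have := EE hn he hi hei rfl
        omega
      · rw [← ha] at h
        exact hei' (by rw [hinj (hE e he) (hE i hi) h])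
    · rcases hje with h | h | h <;> rw [h] at hm <;> simp only [bitE, bitF] at hm <;> omega
  have hbits : ∀ m, (W n).testBit m = true ↔ ¬ ((¬ ((¬ ((q (E 0)).testBit m = true ↔
      (q (E 1)).testBit m = true)) ↔ (q (E 2)).testBit m = true)) ↔
        (q (E (n - 1))).testBit m = true) := by
    intro m
    have hp : ∀ i, i < n → 2 ^ i < 2 ^ n := fun i hi => Nat.pow_lt_pow_right (by omega) hi
    have h : q (W n) = q (E 0) ^^^ q (E 1) ^^^ q (E 2) ^^^ q (E (n - 1)) := by
      rw [W, E, E, E, E, hq.xor _ _ (Nat.xor_lt_two_pow (Nat.xor_lt_two_pow (hp 0 (by omega))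
        (hp 1 (by omega))) (hp 2 (by omega))) (hp _ (by omega)),
        hq.xor _ _ (Nat.xor_lt_two_pow (hp 0 (by omega)) (hp 1 (by omega))) (hp 2 (by omega)),
        hq.xor _ _ (hp 0 (by omega)) (hp 1 (by omega))]
    rw [hqW] at h
    rw [h]
    simp only [Nat.testBit_xor]
    cases (q (E 0)).testBit m <;> cases (q (E 1)).testBit m <;> cases (q (E 2)).testBit m <;>
      cases (q (E (n - 1))).testBit m <;> simp
  have hline0 : S n (E 0 ^^^ E 1) := Or.inr (Or.inl ⟨0, by omega, rfl⟩)
  have hline1 : S n (E 1 ^^^ E 2) := Or.inr (Or.inl ⟨1, by omega, rfl⟩)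
  have hline2 : S n (E (n - 1) ^^^ E (n - 2)) := Or.inr (Or.inl ⟨n - 2, by omega, by
    rw [Nat.xor_comm]; show 2 ^ (n - 2) ^^^ 2 ^ (n - 1) = F (n - 2)
    rw [F, show n - 2 + 1 = n - 1 by omega]⟩)
  have hline3 : S n (E (n - 2) ^^^ E (n - 3)) := Or.inr (Or.inl ⟨n - 3, by omega, by
    rw [Nat.xor_comm]; show 2 ^ (n - 3) ^^^ 2 ^ (n - 2) = F (n - 3)
    rw [F, show n - 3 + 1 = n - 2 by omega]⟩)
  rcases hdir with hid | hrev
  · obtain ⟨j, hj, hje, hja, hjc, hsupp⟩ := houter 0 1 2 (by omega) (by omega) (by omega) hline0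
      (by omega) hline1 1 2 (by rw [hσ 1 le_rfl (by omega), hid 1 le_rfl (by omega)])
      (by rw [hσ 2 (by omega) (by omega), hid 2 (by omega) (by omega)]) (by omega)
    obtain ⟨j', hj', hje', hja', hjc', hsupp'⟩ := houter (n - 1) (n - 2) (n - 3) (by omega) (by omega)
      (by omega) hline2 (by omega) hline3 (n - 2) (n - 3)
      (by rw [hσ _ (by omega) (by omega), hid _ (by omega) (by omega)])
      (by rw [hσ _ (by omega) (by omega), hid _ (by omega) (by omega)]) (by omega)
    have hj0 : j = 0 := by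
      rcases hja with h | h
      · exact absurd (Or.inr (Or.inl (by rw [← h]))) hjc
      · omega
    have hj0' : j' = n - 2 := by
      rcases hja' with h | h
      · omega
      · exact absurd (Or.inl (by congr 1; omega)) hjc'
    have e1 : q (E 1) = E 1 := by rw [hσ 1 le_rfl (by omega), hid 1 le_rfl (by omega)]
    have e2 : q (E 2) = E 2 := by rw [hσ 2 (by omega) (by omega), hid 2 (by omega) (by omega)]
    subst hj0 hj0'
    have e0 : q (E 0) = E 0 := by
      have hb := hbits 1
      rw [e1, e2] at hb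
      simp only [bitW hn, bitE] at hb
      have hs := hsupp' 1
      rcases hje with h | h | h
      · exact h
      · exact absurd (hinj (hE 0 (by omega)) (hE 1 (by omega)) (h.trans e1.symm))
          (fun h => by have := E_inj h; omega)
      · rw [h] at hb
        simp only [bitF] at hb
        cases hv : (q (E (n - 1))).testBit 1
        · simp [hv] at hb <;> omega
        · have := hs hv; omega
    have ee : q (E (n - 1)) = E (n - 1) := by
      have hb := hbits (n - 2)
      rw [e0, e1, e2] at hb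
      simp only [bitW hn, bitE] at hb
      rcases hje' with h | h | h
      · rw [h, bitE] at hb
        omega
      · rw [h]; congr 1; omega
      · rw [h, bitF] at hb
        omega
    refine hq.eq_self fun i hi => ?_
    show q (E i) = E i
    rcases Nat.eq_zero_or_pos i with rfl | h1
    · exact e0
    by_cases h2 : i + 1 < n
    · rw [hσ i h1 h2, hid i h1 h2]
    · rw [show i = n - 1 by omega]; exact ee
  · exfalso
    have e1 : q (E 1) = E (n - 2) := by
      rw [hσ 1 le_rfl (by omega), hrev 1 le_rfl (by omega), show n - 1 - 1 = n - 2 by omega]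
    have e2 : q (E 2) = E (n - 3) := by
      rw [hσ 2 (by omega) (by omega), hrev 2 (by omega) (by omega), show n - 1 - 2 = n - 3 by omega]
    have e3 : q (E (n - 2)) = E 1 := by
      rw [hσ _ (by omega) (by omega), hrev _ (by omega) (by omega)]; congr 1; omega
    have e4 : q (E (n - 3)) = E 2 := by
      rw [hσ _ (by omega) (by omega), hrev _ (by omega) (by omega)]; congr 1; omega
    obtain ⟨j, hj, hje, hja, hjc, hsupp⟩ := houter 0 1 2 (by omega) (by omega) (by omega) hline0
      (by omega) hline1 (n - 2) (n - 3) e1 e2 (by omega)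
    obtain ⟨j', hj', hje', hja', hjc', hsupp'⟩ := houter (n - 1) (n - 2) (n - 3) (by omega) (by omega)
      (by omega) hline2 (by omega) hline3 1 2 e3 e4 (by omega)
    have hj0 : j = n - 2 := by
      rcases hja with h | h
      · omega
      · exact absurd (Or.inl (by congr 1; omega)) hjc
    have hj0' : j' = 0 := by
      rcases hja' with h | h
      · exact absurd (Or.inr (Or.inl (by rw [← h]))) hjc'
      · omega
    have hb := hbits (n - 3)
    rw [e1, e2] at hb
    simp only [bitW hn, bitE] at hb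
    have hv : (q (E 0)).testBit (n - 3) = false := by
      cases hc : (q (E 0)).testBit (n - 3)
      · rfl
      · have := hsupp (n - 3) hc; omega
    have hv' : (q (E (n - 1))).testBit (n - 3) = false := by
      cases hc : (q (E (n - 1))).testBit (n - 3)
      · rfl
      · have := hsupp' (n - 3) hc; omega
    simp [hv, hv'] at hb
    omega

end Cfsg.Agent.H44.BaseTwo.Large
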