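import Cfsg.Agent.H44.BaseTwo.Code
import Cfsg.Agent.H86.BaseTwo.Spec

/-!
In a group of order at most sixteen and exponent two, some subset is moved by every nontrivial element
of a group of automorphisms of order prime to three.

A certificate is a tree: at a node a candidate subset is named, and there is one branch for each
nonidentity table preserving it, which is then known to lie in the group; a branch ends when a word in
the known elements has order three.
-/

set_option autoImplicit false

namespace Cfsg.Agent.H44.BaseTwo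

universe u

inductive Cert where
  | die (w : List ℕ)
  | node (m : ℕ) (cs : List Cert)

/-- Composition of tables. -/
def comp (g h : List ℕ) : List ℕ := h.map fun x => g.getD x 0

/-- The table of a word in the known tables. -/
def word (n : ℕ) (gens : List (List ℕ)) (w : List ℕ) : List ℕ :=
  w.foldr (fun k h => comp (gens.getD k (List.range (2 ^ n))) h) (List.range (2 ^ n))

mutual

/-- The checker. -/
def check (n : ℕ) : List (List ℕ) → Cert → Bool
  | gens, .die w => word n gens w != List.range (2 ^ n) &&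
      comp (word n gens w) (comp (word n gens w) (word n gens w)) == List.range (2 ^ n)
  | gens, .node m cs => !m.testBit 0 &&
      checkList n gens ((autos n m n).filter (· != List.range (2 ^ n))) cs

/-- The checker on the branches of a node. -/
def checkList (n : ℕ) : List (List ℕ) → List (List ℕ) → List Cert → Bool
  | _, [], _ => true
  | _, _ :: _, [] => false
  | gens, g :: gs, c :: cs => check n (g :: gens) c && checkList n gens gs cs

end

theorem checkList_get {n : ℕ} {gens : List (List ℕ)} : ∀ {gs : List (List ℕ)} {cs : List Cert},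
    checkList n gens gs cs = true → ∀ g ∈ gs, ∃ c ∈ cs, check n (g :: gens) c = true := by
  intro gs
  induction gs with
  | nil => intro cs _ g hg; simp at hg
  | cons a gs ih =>
    intro cs h g hg
    cases cs with
    | nil => simp [checkList] at h
    | cons c cs =>
      rw [checkList, Bool.and_eq_true] at h
      rcases List.mem_cons.mp hg with rfl | hg
      · exact ⟨c, by simp, h.1⟩
      · obtain ⟨d, hd, h2⟩ := ih h.2 g hg
        exact ⟨d, by simp [hd], h2⟩

section sound

variable {T : Type*} [CommGroup T] {n : ℕ} (C : Code T n)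

/-- The table of an automorphism. -/
noncomputable def tab (π : T ≃* T) : List ℕ := (List.range (2 ^ n)).map (C.act π)

theorem tab_one : tab C (1 : MulAut T) = List.range (2 ^ n) := by
  refine List.ext_getElem (by simp [tab]) fun i h1 h2 => ?_
  simp only [List.length_range] at h2
  obtain ⟨t, rfl⟩ := C.surj i h2
  simp [tab, C.act_e]

theorem eq_one_of_tab {π : MulAut T} (h : tab C π = List.range (2 ^ n)) : π = 1 := by
  refine MulEquiv.ext fun t => C.inj ?_
  have h1 := congrArg (fun l : List ℕ => l.getD (C.e t) 0) h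
  simpa [tab, List.getD, C.lt t, C.act_e] using h1

theorem tab_mul (π ρ : MulAut T) : tab C (π * ρ) = comp (tab C π) (tab C ρ) := by
  rw [comp, tab, tab, tab, List.map_map]
  refine List.map_congr_left fun x hx => ?_
  obtain ⟨t, rfl⟩ := C.surj x (List.mem_range.mp hx)
  simp [List.getD, C.act_e, C.lt]

theorem exists_word (P : Subgroup (MulAut T)) (gens : List (List ℕ))
    (hgens : ∀ g ∈ gens, ∃ π ∈ P, tab C π = g) :
    ∀ w : List ℕ, ∃ π ∈ P, tab C π = word n gens w := by
  intro w
  induction w with
  | nil => exact ⟨1, P.one_mem, tab_one C⟩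
  | cons k w ih =>
    obtain ⟨ρ, hρ, hρt⟩ := ih
    have hk : ∃ π ∈ P, tab C π = gens.getD k (List.range (2 ^ n)) := by
      by_cases h : k < gens.length
      · obtain ⟨π, hπ, hπt⟩ := hgens _ (List.getElem_mem h)
        exact ⟨π, hπ, hπt.trans (by simp [List.getD, h])⟩
      · exact ⟨1, P.one_mem, (tab_one C).trans (by simp [List.getD, Nat.not_lt.1 h])⟩
    obtain ⟨π, hπ, hπt⟩ := hk
    exact ⟨π * ρ, P.mul_mem hπ hρ, by rw [tab_mul, hπt, hρt]; rfl⟩

theorem sound [Finite T] (P : Subgroup (MulAut T)) (hP : ¬ 3 ∣ Nat.card P) : ∀ (c : Cert)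
    (gens : List (List ℕ)), (∀ g ∈ gens, ∃ π ∈ P, tab C π = g) → check n gens c = true →
      ∃ m : ℕ, m.testBit 0 = false ∧
        ∀ π ∈ P, (∀ t, m.testBit (C.e (π t)) = m.testBit (C.e t)) → π = 1
  | .die w, gens, hgens, h => by
    simp only [check, Bool.and_eq_true, bne_iff_ne, ne_eq, beq_iff_eq] at h
    obtain ⟨π, hπ, hπt⟩ := exists_word C P gens hgens w
    have h3 : π * (π * π) = 1 := eq_one_of_tab C (by rw [tab_mul, tab_mul, hπt]; exact h.2)
    have h1 : (⟨π, hπ⟩ : P) ≠ 1 := fun he => h.1 (by
      have he' : π = 1 := congrArg Subtype.val he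
      rw [← hπt, he']; exact tab_one C)
    have h4 : (⟨π, hπ⟩ : P) ^ 3 = 1 := by
      rw [pow_three]; exact Subtype.ext h3
    exact absurd ((orderOf_eq_prime h4 h1) ▸ orderOf_dvd_natCard (⟨π, hπ⟩ : P)) hP
  | .node m cs, gens, hgens, h => by
    simp only [check, Bool.and_eq_true, Bool.not_eq_true'] at h
    by_cases hgood : ∀ π ∈ P, (∀ t, m.testBit (C.e (π t)) = m.testBit (C.e t)) → π = 1
    · exact ⟨m, h.1, hgood⟩
    push Not at hgood
    obtain ⟨π, hπ, hπm, hπ1⟩ := hgood
    have hmem : tab C π ∈ (autos n m n).filter (· != List.range (2 ^ n)) := by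
      rw [List.mem_filter, bne_iff_ne]
      refine ⟨mem_autos (C.isLin π) (fun x hx => ?_) n le_rfl, fun he => hπ1 (eq_one_of_tab C he)⟩
      obtain ⟨t, rfl⟩ := C.surj x hx
      rw [C.act_e]
      exact hπm t
    obtain ⟨c, hc, hcc⟩ := checkList_get h.2 _ hmem
    exact sound P hP c (tab C π :: gens) (fun g hg => by
      rcases List.mem_cons.mp hg with rfl | hg
      · exact ⟨π, hπ, rfl⟩
      · exact hgens g hg) hcc

end sound

/-- The certificates for one to four bits. -/
def cert : ℕ → Cert
  | 1 => .node 0 []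
  | 2 => .node 4 [.node 12 [.die [1,0]]]
  | 3 => .node 52 [.node 178 [.node 116 [.node 216 [.die [1,0], .die [1,0], .die [0], .die [0],
      .die [2,0]], .die [1,0], .die [0], .die [2,0], .die [0]], .die [1,0], .die [0], .die
      [0], .die [1,0]], .die [0], .node 120 [.die [1,0], .node 56 [.die [2,0], .node 46 [.die
      [1,0], .die [1,0], .die [0], .die [0], .die [2,0]], .die [0], .die [0], .die [1,0]],
      .die [0], .die [0], .die [1,0]], .node 210 [.die [1,0], .die [0], .die [1,0], .node 54
      [.die [1,0], .die [1,0], .die [0], .die [0], .node 88 [.die [3,0], .die [1,0], .die [0],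
      .die [0], .die [2,0]]], .die [0]], .die [0]]
  | 4 => .node 11100 [.node 54926 [.die [1,0], .die [1,0], .die [1,0,0], .node 32048 [.die [2,0],
      .die [1,0], .die [1,0,1,0], .die [1,0,1,0], .die [1,0,0,1,0,0], .die [1,0,0,1,0,0], .die
      [2,0,2,0]], .die [1,0], .die [1,0,0], .node 53458 [.die [1,0], .die [1,0], .die
      [2,1,0,2,1,0,2,1,0,2,1,0,2,1,0], .die [1,0], .die [2,0], .die [2,0], .die [1,0,1,0]]],
      .node 21714 [.die [1,0], .die [1,0,1,0], .die [1,0,0,1,0,0], .node 55588 [.die
      [2,0,1,0], .die [2,0], .die [2,0], .die [1,0], .die [1,0], .die [1,0,1,0], .die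
      [1,0,1,0]], .die [1,0,1,0], .die [1,0,0,1,0,0], .node 25144 [.die [1,0,1,0], .die
      [1,0,1,0], .die [1,0,1,0], .die [1,0,1,0], .die [1,0,1,0], .die [2,0], .die [1,0,1,0]]],
      .node 40834 [.die [1,0,1,0], .die [1,0,1,0], .die [1,0,1,0], .die [1,0,1,0], .die
      [1,0,0,1,0,0], .die [1,0,0,1,0,0], .die [1,0]], .node 41654 [.die [1,0,1,0], .node 41330
      [.die [1,0], .die [2,0], .die [1,0,1,0], .die [1,0], .node 31064 [.die [3,0], .die
      [3,0], .die [2,0,1,0], .die [1,0], .die [1,0,1,0], .die [1,0], .die [1,0,1,0]], .die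
      [1,0,1,0], .die [2,0]], .die [1,0,0,1,0,0], .die [1,0], .die [1,0,0,1,0,0], .die
      [1,0,1,0], .die [1,0,1,0]], .node 20028 [.die [1,0], .die [1,0,1,0], .node 18552 [.die
      [2,0], .die [1,0], .die [1,0], .die [1,0], .die [1,0,0], .die [2,0], .die [1,0,0]], .die
      [1,0,1,0], .die [1,0,0,1,0,0], .die [1,0,1,0], .die [1,0,0,1,0,0]], .node 40648 [.die
      [1,0,1,0], .die [1,0,1,0], .die [1,0,1,0], .die [1,0,1,0], .die [1,0], .node 56016 [.die
      [1,0], .die [2,0,2,0], .die [1,0,1,0], .die [1,0,1,0], .die [1,0,0,1,0,0], .die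
      [1,0,0,1,0,0], .die [2,0,2,0]], .die [1,0,1,0]], .node 13784 [.node 23324 [.die [2,0],
      .die [1,0,1,0], .die [1,0,0,1,0,0], .die [1,0], .die [1,0,1,0], .die [1,0,0,1,0,0], .die
      [1,0,1,0]], .die [1,0,1,0], .die [1,0,0,1,0,0], .die [1,0,0,1,0,0], .die [1,0,1,0], .die
      [1,0], .die [1,0,1,0]]]
  | _ => .node 0 []

theorem check_cert : ∀ n < 5, check n [] (cert n) = true := by decide +kernel

theorem rigidSmall : H86.BaseTwo.RigidSmall.{u} := by
  intro T _ _ hT hcard P hP
  classical
  haveI := Fintype.ofFinite T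
  obtain ⟨n, hn, ⟨C⟩⟩ := exists_code T hT
  have hn5 : n < 5 := by
    rw [hn] at hcard
    exact (Nat.pow_lt_pow_iff_right (by norm_num : 1 < 2)).mp (by norm_num; omega : 2 ^ n < 2 ^ 5)
  obtain ⟨m, hm0, hm⟩ := sound C P hP (cert n) [] (by simp) (check_cert n hn5)
  refine ⟨Finset.univ.filter fun t => m.testBit (C.e t) = true, by simp [C.one, hm0], ?_⟩
  intro π hπ hΔ
  refine hm π hπ fun t => ?_
  have := hΔ t
  simp only [Finset.mem_filter, Finset.mem_univ, true_and] at this
  exact Bool.eq_iff_iff.mpr this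

end Cfsg.Agent.H44.BaseTwo
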