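import Cfsg.Agent.H44.BaseTwo.Large
import Cfsg.Agent.H44.BaseTwo.Small

/-!
The two rigidity inputs of the base two argument.
-/

set_option autoImplicit false

namespace Cfsg.Agent.H44.BaseTwo

open scoped Classical

universe u

/-- The span of a list of codes. -/
def spanList (l : List ℕ) : List ℕ :=
  l.foldl (fun sp v => if sp.contains v then sp else sp ++ sp.map (v ^^^ ·)) [0]

/-- The members of a mask whose translates inside it span. -/
def goodList (m : ℕ) : List ℕ :=
  (List.range 32).filter fun u => m.testBit u &&
    ((List.range 32).all fun x => (spanList ((List.range 32).filter fun v =>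
      m.testBit v && m.testBit (u ^^^ v))).contains x)

/-- The set of codes for thirty-two elements. -/
def mask : ℕ := 3019259712

theorem mask_zero : mask.testBit 0 = false := by decide +kernel

theorem mask_span : ((List.range 32).all fun x => (spanList (goodList mask)).contains x) = true := by
  decide +kernel

theorem mask_autos : autos 5 mask 5 = [List.range (2 ^ 5)] := by decide +kernel

section

variable {T : Type*} [CommGroup T] {n : ℕ} (C : Code T n)

theorem mem_closure_of_spanList {X : Set T} {l : List ℕ} (hl : ∀ x ∈ l, ∃ t ∈ X, C.e t = x)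
    {x : ℕ} (hx : x ∈ spanList l) : ∃ t ∈ Subgroup.closure X, C.e t = x := by
  suffices ∀ l : List ℕ, (∀ x ∈ l, ∃ t ∈ X, C.e t = x) → ∀ sp : List ℕ,
      (∀ x ∈ sp, ∃ t ∈ Subgroup.closure X, C.e t = x) →
      ∀ x ∈ l.foldl (fun sp v => if sp.contains v then sp else sp ++ sp.map (v ^^^ ·)) sp,
        ∃ t ∈ Subgroup.closure X, C.e t = x from
    this l hl [0] (fun y hy => ⟨1, one_mem _, by rw [C.one, List.mem_singleton.mp hy]⟩) x hx
  intro l
  induction l with
  | nil => intro _ sp hsp; exact hsp
  | cons v l ih =>
    intro hl sp hsp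
    rw [List.foldl_cons]
    refine ih (fun y hy => hl y (by simp [hy])) _ fun y hy => ?_
    split_ifs at hy
    · exact hsp y hy
    rcases List.mem_append.mp hy with hy | hy
    · exact hsp y hy
    obtain ⟨z, hz, rfl⟩ := List.mem_map.mp hy
    obtain ⟨s, hs, rfl⟩ := hsp z hz
    obtain ⟨t, ht, rfl⟩ := hl v (by simp)
    exact ⟨t * s, mul_mem (Subgroup.subset_closure ht) hs, C.mul t s⟩

theorem closure_eq_top_of_spanList {X : Set T} {l : List ℕ} (hl : ∀ x ∈ l, ∃ t ∈ X, C.e t = x)
    (h : ((List.range (2 ^ n)).all fun x => (spanList l).contains x) = true) :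
    Subgroup.closure X = ⊤ := by
  refine (Subgroup.eq_top_iff' _).mpr fun t => ?_
  rw [List.all_eq_true] at h
  have hx := h (C.e t) (List.mem_range.mpr (C.lt t))
  obtain ⟨s, hs, he⟩ := mem_closure_of_spanList C hl (List.contains_iff_mem.mp hx)
  rwa [← C.inj he]

theorem closure_eq_top_of_card [Fintype T] (X : Set T)
    (h : 2 * (Finset.univ.filter fun t => t ∉ X).card < Fintype.card T) :
    Subgroup.closure X = ⊤ := by
  refine (Subgroup.eq_top_iff' _).mpr fun t => ?_
  set B := Finset.univ.filter fun s => s ∉ X
  have hcard : (B ∪ B.image fun s => t⁻¹ * s).card < Fintype.card T :=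
    lt_of_le_of_lt ((Finset.card_union_le _ _).trans
      (add_le_add le_rfl Finset.card_image_le)) (by omega)
  obtain ⟨a, ha⟩ : ∃ a, a ∉ B ∪ B.image fun s => t⁻¹ * s := by
    by_contra hcon
    push Not at hcon
    rw [Finset.eq_univ_iff_forall.mpr hcon, Finset.card_univ] at hcard
    exact lt_irrefl _ hcard
  simp only [Finset.mem_union, Finset.mem_image, not_or, not_exists, not_and] at ha
  have h1 : a ∈ X := by simpa [B] using ha.1
  have h2 : t * a ∈ X := by
    by_contra hta
    exact ha.2 (t * a) (by simpa [B] using hta) (by simp)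
  have := mul_mem (Subgroup.subset_closure h2) (inv_mem (Subgroup.subset_closure h1))
  rwa [mul_inv_cancel_right] at this

end

theorem rigidLarge : H86.BaseTwo.RigidLarge.{u} := by
  intro T _ _ hT hcard
  haveI := Fintype.ofFinite T
  obtain ⟨n, hn, ⟨C⟩⟩ := exists_code T hT
  rcases Nat.lt_or_ge n 6 with h6 | h6
  · obtain rfl : n = 5 := by
      have : 2 ^ 5 ≤ 2 ^ n := by omega
      rw [Nat.pow_le_pow_iff_right (by norm_num)] at this
      omega
    set Δ : Finset T := Finset.univ.filter fun t => mask.testBit (C.e t) = true with hΔ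
    have hgood : Subgroup.closure {u : T | u ∈ Δ ∧
        Subgroup.closure {v : T | v ∈ Δ ∧ u * v ∈ Δ} = ⊤} = ⊤ := by
      refine closure_eq_top_of_spanList C (l := goodList mask) (fun x hx => ?_) mask_span
      simp only [goodList, List.mem_filter, Bool.and_eq_true, List.mem_range] at hx
      obtain ⟨hx1, hx2, hx3⟩ := hx
      obtain ⟨u, rfl⟩ := C.surj x hx1
      refine ⟨u, ⟨by simp [hΔ, hx2], closure_eq_top_of_spanList C (fun y hy => ?_) hx3⟩, rfl⟩
      simp only [List.mem_filter, Bool.and_eq_true, List.mem_range] at hy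
      obtain ⟨hy1, hy2, hy3⟩ := hy
      obtain ⟨v, rfl⟩ := C.surj y hy1
      exact ⟨v, ⟨by simp [hΔ, hy2], by simp [hΔ, C.mul, hy3]⟩, rfl⟩
    refine ⟨Δ, by simp only [hΔ, Finset.mem_filter, C.one, mask_zero]; simp,
      top_le_iff.mp (hgood ▸ Subgroup.closure_mono fun u hu => hu.1), hgood, fun π hπ t => ?_⟩
    have hmem := mem_autos (m := mask) (C.isLin π) (fun x hx => by
      obtain ⟨s, rfl⟩ := C.surj x hx
      rw [C.act_e]
      have := hπ s
      simp only [hΔ, Finset.mem_filter, Finset.mem_univ, true_and] at this
      exact Bool.eq_iff_iff.mpr this) 5 le_rfl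
    rw [mask_autos, List.mem_singleton] at hmem
    exact DFunLike.congr_fun (eq_one_of_tab C (π := π) hmem) t
  · set S : Finset T := Finset.univ.filter fun t => C.e t = 0 ∨ Large.S n (C.e t) with hS
    set Δ : Finset T := Sᶜ with hΔ
    have hScard : S.card ≤ 2 * n + 1 := by
      have hsub : S.image C.e ⊆ insert 0 (insert (Large.W n)
          ((Finset.range n).image Large.E ∪ (Finset.range (n - 1)).image Large.F)) := by
        intro x hx
        obtain ⟨t, ht, rfl⟩ := Finset.mem_image.mp hx
        simp only [hS, Finset.mem_filter, Finset.mem_univ, true_and] at ht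
        rcases ht with h | ⟨i, hi, h⟩ | ⟨i, hi, h⟩ | h <;> rw [h] <;>
          simp only [Finset.mem_insert, Finset.mem_union, Finset.mem_image, Finset.mem_range]
        · simp
        · exact Or.inr (Or.inr (Or.inl ⟨i, hi, rfl⟩))
        · exact Or.inr (Or.inr (Or.inr ⟨i, by omega, rfl⟩))
        · simp
      have h1 := Finset.card_le_card hsub
      rw [Finset.card_image_of_injective _ C.inj] at h1
      have h2 := (Finset.card_insert_le 0 _).trans (Nat.succ_le_succ (Finset.card_insert_le (Large.W n) _))
        |>.trans (Nat.succ_le_succ (Nat.succ_le_succ (Finset.card_union_le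
          ((Finset.range n).image Large.E) ((Finset.range (n - 1)).image Large.F))))
      have h3 := (Finset.card_image_le (s := Finset.range n) (f := Large.E))
      have h4 := (Finset.card_image_le (s := Finset.range (n - 1)) (f := Large.F))
      rw [Finset.card_range] at h3 h4
      omega
    have hT2 : 2 * (2 * (2 * n + 1)) < Fintype.card T := by
      rw [← Nat.card_eq_fintype_card, hn]
      have key : ∀ k, 6 ≤ k → 2 * (2 * (2 * k + 1)) < 2 ^ k := by
        intro k hk
        induction k, hk using Nat.le_induction with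
        | base => norm_num
        | succ m hm ih => rw [pow_succ]; omega
      exact key n h6
    have hu : ∀ u : T, Subgroup.closure {v : T | v ∈ Δ ∧ u * v ∈ Δ} = ⊤ := by
      intro u
      refine closure_eq_top_of_card _ (lt_of_le_of_lt (Nat.mul_le_mul_left 2
        ((Finset.card_le_card (t := S ∪ S.image fun s => u⁻¹ * s) fun v hv => ?_).trans
          ((Finset.card_union_le _ _).trans (add_le_add le_rfl Finset.card_image_le)))) (by omega))
      simp only [Finset.mem_filter, Finset.mem_univ, true_and, Set.mem_ofPred_eq, not_and_or, hΔ,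
        Finset.mem_compl, not_not] at hv
      rcases hv with hv | hv
      · exact Finset.mem_union_left _ hv
      · exact Finset.mem_union_right _ (Finset.mem_image.mpr ⟨u * v, hv, by simp⟩)
    have htop : Subgroup.closure (Δ : Set T) = ⊤ :=
      top_le_iff.mp ((hu 1) ▸ Subgroup.closure_mono fun v hv => hv.1)
    refine ⟨Δ, by simp [hΔ, hS, C.one], htop, ?_, fun π hπ t => ?_⟩
    · exact top_le_iff.mp (le_trans htop.ge (Subgroup.closure_mono fun u hmem => ⟨hmem, hu u⟩))
    have hSq : ∀ x, x < 2 ^ n → (Large.S n (C.act π x) ↔ Large.S n x) := by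
      intro x hx
      obtain ⟨s, rfl⟩ := C.surj x hx
      rw [C.act_e]
      have h0 : C.e (π s) = 0 ↔ C.e s = 0 := by
        rw [← C.one]
        exact ⟨fun h => congrArg C.e (π.injective (by rw [map_one]; exact C.inj h)),
          fun h => by rw [C.inj h, map_one]⟩
      have h1 := hπ s
      simp only [hΔ, hS, Finset.mem_compl, Finset.mem_filter, Finset.mem_univ, true_and,
        not_iff_not] at h1
      constructor
      · intro h
        rcases h1.mp (Or.inr h) with h' | h'
        · exact absurd (h0.mpr h' ▸ h) (Large.zero_not_S h6)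
        · exact h'
      · intro h
        rcases h1.mpr (Or.inr h) with h' | h'
        · exact absurd (h0.mp h' ▸ h) (Large.zero_not_S h6)
        · exact h'
    have h := Large.rigid h6 (C.isLin π) hSq (C.e t) (C.lt t)
    rw [C.act_e] at h
    exact C.inj h

end Cfsg.Agent.H44.BaseTwo
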